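import Mathlib

/-!
Lifting standard étale algebras from a localised quotient.
-/

set_option autoImplicit false
set_option linter.style.haveILetI false

universe u

open Polynomial TensorProduct CategoryTheory

namespace Groth.Agent.EtaleFibreLift

/-- Elements are fractions with unit denominators from the source. -/
def SurjUpToUnits {A B : Type u} [CommRing A] [CommRing B] (φ : A →+* B) : Prop :=
  ∀ b : B, ∃ a t : A, IsUnit (φ t) ∧ φ t * b = φ a

theorem SurjUpToUnits.tensor {R A K : Type u} [CommRing R] [CommRing A] [CommRing K] [Algebra R A]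
    [Algebra R K] (h : SurjUpToUnits (algebraMap R K)) :
    SurjUpToUnits (Algebra.TensorProduct.includeLeftRingHom : A →+* A ⊗[R] K) := by
  intro b
  induction b using TensorProduct.induction_on with
  | zero => exact ⟨0, 1, by rw [map_one]; exact isUnit_one, by rw [map_zero, mul_zero]⟩
  | tmul a c =>
    obtain ⟨u, t, ht, htc⟩ := h c
    have key : ∀ z : R, (algebraMap R A z ⊗ₜ[R] (1 : K) : A ⊗[R] K) = 1 ⊗ₜ algebraMap R K z := fun z => by
      rw [Algebra.algebraMap_eq_smul_one, Algebra.algebraMap_eq_smul_one, TensorProduct.smul_tmul]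
    refine ⟨a * algebraMap R A u, algebraMap R A t, ?_, ?_⟩
    · rw [Algebra.TensorProduct.includeLeftRingHom_apply, key]
      exact ht.map (Algebra.TensorProduct.includeRight : K →ₐ[R] A ⊗[R] K)
    · simp only [Algebra.TensorProduct.includeLeftRingHom_apply]
      rw [key, Algebra.TensorProduct.tmul_mul_tmul, one_mul, htc]
      rw [show a * algebraMap R A u = u • a by rw [Algebra.smul_def, mul_comm], TensorProduct.smul_tmul,
        Algebra.algebraMap_eq_smul_one]
  | add x y hx hy =>
    obtain ⟨a, t, ht, hta⟩ := hx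
    obtain ⟨a', t', ht', hta'⟩ := hy
    refine ⟨a * t' + t * a', t * t', by rw [map_mul]; exact ht.mul ht', ?_⟩
    rw [map_mul, map_add, map_mul, map_mul, ← hta, ← hta']
    ring

theorem exists_common {A B : Type u} [CommRing A] [CommRing B] {φ : A →+* B} (h : SurjUpToUnits φ)
    (s : Finset B) : ∃ t : A, IsUnit (φ t) ∧ ∀ b ∈ s, ∃ a, φ t * b = φ a := by
  classical
  induction s using Finset.induction_on with
  | empty => exact ⟨1, by simp, by simp⟩
  | insert b s _ ih =>
    obtain ⟨t, ht, hts⟩ := ih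
    obtain ⟨a, t', ht', hta⟩ := h b
    refine ⟨t * t', by rw [map_mul]; exact ht.mul ht', fun c hc => ?_⟩
    rcases Finset.mem_insert.1 hc with rfl | hc
    · exact ⟨t * a, by rw [map_mul, map_mul, mul_assoc, hta]⟩
    · obtain ⟨d, hd⟩ := hts c hc
      exact ⟨t' * d, by rw [map_mul, map_mul, ← hd]; ring⟩

/-- The standard étale pair lifts over one localisation. -/
theorem exists_pair {A B : Type u} [CommRing A] [CommRing B] [Algebra A B]
    (h : SurjUpToUnits (algebraMap A B)) (P : StandardEtalePair B) :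
    ∃ (t : A) (ht : IsUnit (algebraMap A B t)) (f g : (Localization.Away t)[X]), f.Monic ∧
      f.map (IsLocalization.Away.lift t ht) = P.f ∧ g.map (IsLocalization.Away.lift t ht) = P.g := by
  classical
  obtain ⟨t, ht, hts⟩ := exists_common h (P.f.coeffs ∪ P.g.coeffs)
  let ψ : Localization.Away t →+* B := IsLocalization.Away.lift t ht
  have hl : ∀ p : B[X], p.coeffs ⊆ P.f.coeffs ∪ P.g.coeffs → p ∈ Polynomial.lifts ψ := by
    intro p hp
    rw [Polynomial.lifts_iff_coeff_lifts]
    intro n
    by_cases hn : p.coeff n = 0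
    · exact ⟨0, by rw [hn, map_zero]⟩
    obtain ⟨a, ha⟩ := hts _ (hp (Polynomial.coeff_mem_coeffs hn))
    refine ⟨algebraMap A (Localization.Away t) a * IsLocalization.Away.invSelf t, ?_⟩
    refine ht.mul_left_cancel ?_
    rw [ha, ← IsLocalization.Away.lift_eq (S := Localization.Away t) t ht t, ← map_mul, ← mul_assoc,
      mul_comm (algebraMap A (Localization.Away t) t), mul_assoc, IsLocalization.Away.mul_invSelf, mul_one]
    exact IsLocalization.Away.lift_eq (S := Localization.Away t) t ht a
  obtain ⟨g, hg⟩ := hl P.g Finset.subset_union_right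
  rcases subsingleton_or_nontrivial B with hB | hB
  · exact ⟨t, ht, 1, g, monic_one, Subsingleton.elim _ _, hg⟩
  obtain ⟨f, hf, -, hfm⟩ := Polynomial.lifts_and_degree_eq_and_monic (hl P.f Finset.subset_union_left) P.monic_f
  exact ⟨t, ht, f, g, hfm, hf, hg⟩

/-- The pushout square of standard étale algebras. -/
theorem exists_pushout {A B : Type u} [CommRing A] [CommRing B] [Algebra A B] (P : StandardEtalePair B)
    (f g : A[X]) (hfm : f.Monic) (hf : f.map (algebraMap A B) = P.f) (hg : g.map (algebraMap A B) = P.g) :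
    ∃ (C : Type u) (_ : CommRing C) (_ : Algebra A C) (_ : Algebra.Etale A C) (r : C →+* P.Ring),
      IsPushout (CommRingCat.ofHom (algebraMap A B)) (CommRingCat.ofHom (algebraMap A C))
        (CommRingCat.ofHom (algebraMap B P.Ring)) (CommRingCat.ofHom r) := by
  let Q : StandardEtalePair A := ⟨f, hfm, g * derivative f, g, 0, 1, by ring⟩
  letI : Algebra A P.Ring := ((algebraMap B P.Ring).comp (algebraMap A B)).toAlgebra
  haveI : IsScalarTower A B P.Ring := IsScalarTower.of_algebraMap_eq fun _ => rfl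
  have hQP : Q.HasMap P.X := by
    refine ⟨?_, ?_⟩
    · change aeval P.X f = 0
      rw [← aeval_map_algebraMap B, hf]; exact P.hasMap_X.1
    · change IsUnit (aeval P.X (g * derivative f))
      rw [map_mul, ← aeval_map_algebraMap B _ g, ← aeval_map_algebraMap B _ (derivative f), ← derivative_map,
        hf, hg]
      exact P.hasMap_X.2.mul P.hasMap_X.isUnit_derivative_f
  have hPQ : P.HasMap ((1 : B) ⊗ₜ[A] Q.X : B ⊗[A] Q.Ring) := by
    refine ⟨?_, ?_⟩
    · rw [← hf, aeval_map_algebraMap]
      exact (Q.hasMap_X.map (Algebra.TensorProduct.includeRight : Q.Ring →ₐ[A] B ⊗[A] Q.Ring)).1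
    · rw [← hg, aeval_map_algebraMap]
      have h : IsUnit (aeval ((1 : B) ⊗ₜ[A] Q.X) (g * derivative f)) :=
        (Q.hasMap_X.map (Algebra.TensorProduct.includeRight : Q.Ring →ₐ[A] B ⊗[A] Q.Ring)).2
      rw [map_mul] at h
      exact isUnit_of_mul_isUnit_left h
  let ψ : B ⊗[A] Q.Ring →ₐ[B] P.Ring :=
    Algebra.TensorProduct.lift (Algebra.ofId B P.Ring) (Q.lift P.X hQP) fun _ _ => Commute.all _ _
  let χ : P.Ring →ₐ[B] B ⊗[A] Q.Ring := P.lift _ hPQ
  have h1 : ψ.comp χ = AlgHom.id B _ := P.hom_ext (by simp [ψ, χ])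
  have h2 : χ.comp ψ = AlgHom.id B _ :=
    Algebra.TensorProduct.ext' fun b c => by
      have h3 : ((χ.comp ψ).restrictScalars A).comp (Algebra.TensorProduct.includeRight : Q.Ring →ₐ[A] B ⊗[A] Q.Ring) =
          Algebra.TensorProduct.includeRight := Q.hom_ext (by simp [ψ, χ])
      have h4 := congr($h3 c)
      rw [show (b ⊗ₜ[A] c : B ⊗[A] Q.Ring) = b • ((1 : B) ⊗ₜ[A] c) by rw [TensorProduct.smul_tmul', smul_eq_mul, mul_one],
        map_smul, map_smul]
      exact congrArg (b • ·) h4
  let e : B ⊗[A] Q.Ring ≃ₐ[B] P.Ring := AlgEquiv.ofAlgHom ψ χ h1 h2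
  refine ⟨Q.Ring, inferInstance, inferInstance, inferInstance, (Q.lift P.X hQP).toRingHom, ?_⟩
  refine IsPushout.of_iso (CommRingCat.isPushout_tensorProduct A B Q.Ring) (Iso.refl _) (Iso.refl _) (Iso.refl _)
    e.toRingEquiv.toCommRingCatIso (by simp) (by simp) ?_ ?_
  · ext b
    exact ψ.commutes b
  · ext c
    change ψ ((1 : B) ⊗ₜ[A] c) = Q.lift P.X hQP c
    simp [ψ]

end Groth.Agent.EtaleFibreLift
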