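import Groth.Agent.EtaleFibreLift.Ring
import Groth.Agent.FibCrit.Props
import Groth.Prelude.Def_MoreMor

/-!
An étale neighbourhood of a point in a fibre lifts to the total space.
-/

set_option autoImplicit false
set_option linter.style.haveILetI false

universe u

open AlgebraicGeometry CategoryTheory CategoryTheory.Limits TensorProduct

namespace Groth.Agent.EtaleFibreLift

theorem isPullback_comp_mono {P A B C D : Scheme.{u}} {p : P ⟶ A} {q : P ⟶ B} {a : A ⟶ C} {b : B ⟶ C}
    (h : IsPullback p q a b) (i : C ⟶ D) [Mono i] : IsPullback p q (a ≫ i) (b ≫ i) :=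
  ⟨⟨by rw [h.w_assoc]⟩, ⟨PullbackCone.IsLimit.mk _
    (fun s => h.lift s.fst s.snd (by rw [← cancel_mono i, Category.assoc, Category.assoc]; exact s.condition))
    (fun s => h.lift_fst _ _ _) (fun s => h.lift_snd _ _ _)
    (fun s m h1 h2 => h.hom_ext (by rw [h.lift_fst]; exact h1) (by rw [h.lift_snd]; exact h2))⟩⟩

theorem isPullback_cancel_mono {P A A' B C : Scheme.{u}} {p : P ⟶ A'} {q : P ⟶ B} {i : A' ⟶ A} [Mono i]
    {a : A ⟶ C} {b : B ⟶ C} (h : IsPullback (p ≫ i) q a b) : IsPullback p q (i ≫ a) b :=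
  ⟨⟨by rw [← Category.assoc]; exact h.w⟩, ⟨PullbackCone.IsLimit.mk _
    (fun s => h.lift (s.fst ≫ i) s.snd (by rw [Category.assoc]; exact s.condition))
    (fun s => by rw [← cancel_mono i, Category.assoc]; exact h.lift_fst _ _ _)
    (fun s => h.lift_snd _ _ _)
    (fun s m h1 h2 => h.hom_ext (by rw [h.lift_fst, ← h1, Category.assoc]) (by rw [h.lift_snd]; exact h2))⟩⟩

/-- The point lies in an affine open of the fibre of the expected form. -/
theorem exists_chart {X S : Scheme.{u}} (f : X ⟶ S) (x : X) :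
    ∃ (A B : CommRingCat.{u}) (φ : A ⟶ B) (i : Spec A ⟶ X) (e : Spec B ⟶ f.fiber (f x)) (b : Spec B),
      IsOpenImmersion i ∧ SurjUpToUnits φ.hom ∧ IsPullback (Spec.map φ) e i (f.fiberι (f x)) ∧ e b = f.asFiber x := by
  obtain ⟨R, hR, hxR, -⟩ := exists_isAffineOpen_mem_and_subset (x := f x) (U := ⊤) trivial
  obtain ⟨U, hU, hxU, hUR⟩ := exists_isAffineOpen_mem_and_subset (x := x) (U := f ⁻¹ᵁ R) hxR
  let φ : Γ(S, R) ⟶ Γ(X, U) := f.appLE R U hUR
  let ψ : Γ(S, R) ⟶ S.residueField (f x) := S.presheaf.germ R (f x) hxR ≫ S.residue (f x)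
  have hψ : SurjUpToUnits ψ.hom := by
    intro c
    obtain ⟨c, rfl⟩ := S.residue_surjective (f x) c
    letI := (S.presheaf.germ R (f x) hxR).hom.toAlgebra
    haveI := hR.isLocalization_stalk ⟨f x, hxR⟩
    obtain ⟨⟨a, t⟩, hat⟩ := IsLocalization.surj (hR.primeIdealOf ⟨f x, hxR⟩).asIdeal.primeCompl c
    refine ⟨a, t, (IsLocalization.map_units (S.presheaf.stalk (f x)) t).map (S.residue (f x)).hom, ?_⟩
    change (S.residue (f x)).hom _ * (S.residue (f x)).hom c = (S.residue (f x)).hom _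
    rw [← map_mul, mul_comm]
    exact congrArg _ hat
  have hψs : Spec.map ψ ≫ hR.fromSpec = S.fromSpecResidueField (f x) := by
    rw [Spec.map_comp, Category.assoc, Scheme.fromSpecResidueField, ← hR.fromSpecStalk_eq_fromSpecStalk hxR]
    rfl
  have hφs : Spec.map φ ≫ hR.fromSpec = hU.fromSpec ≫ f := IsAffineOpen.SpecMap_appLE_fromSpec f hR hU hUR
  letI := φ.hom.toAlgebra
  letI := ψ.hom.toAlgebra
  let ι₁ : Γ(X, U) ⟶ CommRingCat.of (Γ(X, U) ⊗[Γ(S, R)] S.residueField (f x)) :=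
    CommRingCat.ofHom Algebra.TensorProduct.includeLeftRingHom
  let ι₂ : S.residueField (f x) ⟶ CommRingCat.of (Γ(X, U) ⊗[Γ(S, R)] S.residueField (f x)) :=
    CommRingCat.ofHom (Algebra.TensorProduct.includeRight :
      S.residueField (f x) →ₐ[Γ(S, R)] Γ(X, U) ⊗[Γ(S, R)] S.residueField (f x)).toRingHom
  have hpo : IsPushout φ ψ ι₁ ι₂ := CommRingCat.isPushout_tensorProduct Γ(S, R) Γ(X, U) (S.residueField (f x))
  have hT := isPullback_comp_mono (isPullback_SpecMap_of_isPushout _ _ _ _ hpo) hR.fromSpec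
  rw [hφs, hψs] at hT
  let e : Spec (CommRingCat.of (Γ(X, U) ⊗[Γ(S, R)] S.residueField (f x))) ⟶ f.fiber (f x) :=
    pullback.lift (Spec.map ι₁ ≫ hU.fromSpec) (Spec.map ι₂) (by rw [Category.assoc]; exact hT.w)
  have hsq : IsPullback (Spec.map ι₁) e hU.fromSpec (f.fiberι (f x)) := by
    refine IsPullback.of_bot (v₂₁ := f.fiberToSpecResidueField (f x)) (v₂₂ := f)
      (h₃₁ := S.fromSpecResidueField (f x)) ?_ (pullback.lift_fst _ _ _).symm
      (IsPullback.of_hasPullback f (S.fromSpecResidueField (f x)))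
    rw [show e ≫ f.fiberToSpecResidueField (f x) = Spec.map ι₂ from pullback.lift_snd _ _ _]
    exact hT
  have hx : hU.fromSpec (hU.primeIdealOf ⟨x, hxU⟩) = f.fiberι (f x) (f.asFiber x) := by
    rw [hU.fromSpec_primeIdealOf, Scheme.Hom.fiberι_asFiber]
  obtain ⟨b, -, hb⟩ := Scheme.Pullback.exists_preimage_pullback _ _ hx
  exact ⟨_, _, ι₁, hU.fromSpec, e, hsq.isoPullback.inv b, inferInstance, hψ.tensor, hsq, by
    rw [← Scheme.Hom.comp_apply, hsq.isoPullback_inv_snd]; exact hb⟩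

/-- The main statement. -/
theorem exists_etale_nbhd {X S V : Scheme.{u}} (f : X ⟶ S) (x : X)
    (g : V ⟶ f.fiber (f x)) [Etale g] (v : V) (hv : g v = f.asFiber x) :
    ∃ (U : Scheme.{u}) (p : U ⟶ X) (u : U) (m : (p ≫ f).fiber (f x) ⟶ V) (u' : ↑((p ≫ f).fiber (f x))),
      Etale p ∧ p u = x ∧ IsOpenImmersion m ∧ m ≫ g = MoreMor.fiberMap p f (f x) ∧
      (p ≫ f).fiberι (f x) u' = u ∧ m u' = v := by
  obtain ⟨A, B, φ, i, e, b, hi, hφ, hsq, hb⟩ := exists_chart f x
  haveI : IsOpenImmersion e := MorphismProperty.of_isPullback hsq hi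
  obtain ⟨W, hW, hvW, hWe⟩ := exists_isAffineOpen_mem_and_subset (x := v) (U := g ⁻¹ᵁ e.opensRange)
    ⟨b, by rw [hb, hv]⟩
  have hran : Set.range (hW.fromSpec ≫ g) ⊆ Set.range e := by
    rintro _ ⟨w, rfl⟩
    have hw : hW.fromSpec w ∈ W := by
      rw [← SetLike.mem_coe, ← hW.range_fromSpec]; exact ⟨w, rfl⟩
    exact hWe hw
  let h : Spec Γ(V, W) ⟶ Spec B := IsOpenImmersion.lift e (hW.fromSpec ≫ g) hran
  have he : h ≫ e = hW.fromSpec ≫ g := IsOpenImmersion.lift_fac _ _ _
  haveI : Etale h := by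
    haveI : Etale (h ≫ e) := by rw [he]; infer_instance
    exact Etale.of_comp h e
  obtain ⟨θ, hθ⟩ := Spec.map_surjective h
  have hθe : θ.hom.Etale := by
    rw [← HasRingHomProperty.Spec_iff (P := @Etale), hθ]; infer_instance
  algebraize [φ.hom, θ.hom]
  obtain ⟨c, hc, hstd⟩ := Algebra.IsEtaleAt.exists_isStandardEtale (R := B) (hW.primeIdealOf ⟨v, hvW⟩).asIdeal
  obtain ⟨pres⟩ := hstd.nonempty_standardEtalePresentation
  obtain ⟨t, ht, F, G, hFm, hF, hG⟩ := exists_pair (A := A) (B := B) hφ pres.P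
  let ψ : Localization.Away t →+* B := IsLocalization.Away.lift t ht
  letI : Algebra (Localization.Away t) B := ψ.toAlgebra
  obtain ⟨C, _, _, hC, r, hpo⟩ := exists_pushout (A := Localization.Away t) (B := B) pres.P F G hFm hF hG
  -- the squares
  let a : Spec (CommRingCat.of (Localization.Away t)) ⟶ Spec A :=
    Spec.map (CommRingCat.ofHom (algebraMap A (Localization.Away t)))
  haveI : IsOpenImmersion a := IsOpenImmersion.of_isLocalization t
  have hψ : Spec.map (CommRingCat.ofHom ψ) ≫ a = Spec.map φ := by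
    rw [← Spec.map_comp]
    congr 1
    ext z
    exact IsLocalization.Away.lift_eq t ht z
  have h1 : IsPullback (Spec.map (CommRingCat.ofHom ψ)) e (a ≫ i) (f.fiberι (f x)) :=
    isPullback_cancel_mono (by rw [hψ]; exact hsq)
  let p : Spec (CommRingCat.of C) ⟶ X := Spec.map (CommRingCat.ofHom (algebraMap (Localization.Away t) C)) ≫ a ≫ i
  haveI : Etale (Spec.map (CommRingCat.ofHom (algebraMap (Localization.Away t) C))) := by
    rw [HasRingHomProperty.Spec_iff (P := @Etale), CommRingCat.hom_ofHom, RingHom.etale_algebraMap]; exact hC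
  haveI : Etale p := inferInstance
  have h2 := (isPullback_SpecMap_of_isPushout _ _ _ _ hpo).flip.paste_vert h1
  let iso := (FibCrit.isPullback_fiberMap p f (f x)).isoIsPullback _ _ h2
  -- the open immersion
  let σ : Γ(V, W) →+* pres.P.Ring := pres.equivRing.toRingHom.comp (algebraMap Γ(V, W) (Localization.Away c))
  let j : Spec (CommRingCat.of pres.P.Ring) ⟶ V := Spec.map (CommRingCat.ofHom σ) ≫ hW.fromSpec
  haveI : IsOpenImmersion (Spec.map (CommRingCat.ofHom σ)) := by
    rw [show CommRingCat.ofHom σ = CommRingCat.ofHom (algebraMap Γ(V, W) (Localization.Away c)) ≫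
      pres.equivRing.toRingEquiv.toCommRingCatIso.hom from rfl, Spec.map_comp]
    haveI := IsOpenImmersion.of_isLocalization (R := Γ(V, W)) (S := Localization.Away c) c
    infer_instance
  have hjg : j ≫ g = Spec.map (CommRingCat.ofHom (algebraMap B pres.P.Ring)) ≫ e := by
    rw [Category.assoc, ← he, ← Category.assoc, ← hθ, ← Spec.map_comp]
    congr 2
    ext z
    exact pres.equivRing.commutes z
  obtain ⟨z, hz⟩ : ∃ z, j z = v := by
    have : hW.primeIdealOf ⟨v, hvW⟩ ∈ Set.range (PrimeSpectrum.comap (algebraMap Γ(V, W) (Localization.Away c))) := by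
      rw [PrimeSpectrum.localization_away_comap_range (Localization.Away c) c]; exact hc
    obtain ⟨w, hw⟩ := this
    refine ⟨Spec.map (CommRingCat.ofHom pres.equivRing.symm.toRingEquiv.toRingHom) w, ?_⟩
    change hW.fromSpec (PrimeSpectrum.comap σ (PrimeSpectrum.comap pres.equivRing.symm.toRingEquiv.toRingHom w)) = v
    rw [← PrimeSpectrum.comap_comp_apply]
    have : (pres.equivRing.symm.toRingEquiv.toRingHom).comp σ = algebraMap Γ(V, W) (Localization.Away c) := by
      ext y; simp [σ]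
    rw [this, hw, hW.fromSpec_primeIdealOf]
  have hmg : (iso.hom ≫ j) ≫ g = MoreMor.fiberMap p f (f x) := by
    exact (Category.assoc _ _ _).trans ((congrArg (iso.hom ≫ ·) hjg).trans
      (IsPullback.isoIsPullback_hom_snd _ _ _ h2))
  refine ⟨_, p, (p ≫ f).fiberι (f x) (iso.inv z), iso.hom ≫ j, iso.inv z, inferInstance, ?_, inferInstance,
    hmg, rfl, ?_⟩
  · have hq : iso.hom (iso.inv z) = z := by
      rw [← Scheme.Hom.comp_apply, iso.inv_hom_id]; rfl
    have key : ((p ≫ f).fiberι (f x) ≫ p) (iso.inv z) = (((iso.hom ≫ j) ≫ g) ≫ f.fiberι (f x)) (iso.inv z) := by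
      rw [hmg]
      exact congrArg (fun q : (p ≫ f).fiber (f x) ⟶ X => q (iso.inv z)) (FibCrit.isPullback_fiberMap p f (f x)).w
    simp only [Scheme.Hom.comp_apply, hq, hz, hv, Scheme.Hom.fiberι_asFiber] at key
    exact key
  · rw [Scheme.Hom.comp_apply, ← Scheme.Hom.comp_apply iso.inv, iso.inv_hom_id]
    exact hz

end Groth.Agent.EtaleFibreLift
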